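import Groth.Agent.LCZLib.Seq
import Mathlib.Algebra.Homology.ShortComplex.SnakeLemma
import Mathlib.Topology.Sheaves.MayerVietoris

/-!
# The Mayer–Vietoris sequence of `ℤ_{Z,X}`
-/

set_option autoImplicit false

universe v u

open CategoryTheory CategoryTheory.Limits TopologicalSpace

noncomputable section

namespace Groth.Agent.H6MV

section Nine

variable {C : Type*} [Category C] [Abelian C]

/-- Short exact columns and two short exact upper rows give a short exact bottom row. -/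
theorem shortExact_bottom {A B Q : ShortComplex C} (φ : A ⟶ B) (π : B ⟶ Q) (w : φ ≫ π = 0)
    (hA : A.ShortExact) (hB : B.ShortExact)
    {w₁ : φ.τ₁ ≫ π.τ₁ = 0} (h₁ : (ShortComplex.mk φ.τ₁ π.τ₁ w₁).ShortExact)
    {w₂ : φ.τ₂ ≫ π.τ₂ = 0} (h₂ : (ShortComplex.mk φ.τ₂ π.τ₂ w₂).ShortExact)
    {w₃ : φ.τ₃ ≫ π.τ₃ = 0} (h₃ : (ShortComplex.mk φ.τ₃ π.τ₃ w₃).ShortExact) :
    Q.ShortExact := by
  have := h₁.epi_g
  have := h₂.epi_g
  have := h₃.epi_g
  have := hA.epi_g
  have := hB.mono_f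
  have := hB.epi_g
  dsimp at *
  have e₁ : ∀ {Z : C} (k : B.X₁ ⟶ Z) (hk : φ.τ₁ ≫ k = 0),
      π.τ₁ ≫ h₁.exact.desc k hk = k := fun k hk => h₁.exact.g_desc k hk
  have e₂ : ∀ {Z : C} (k : B.X₂ ⟶ Z) (hk : φ.τ₂ ≫ k = 0),
      π.τ₂ ≫ h₂.exact.desc k hk = k := fun k hk => h₂.exact.g_desc k hk
  have e₃ : ∀ {Z : C} (k : B.X₃ ⟶ Z) (hk : φ.τ₃ ≫ k = 0),
      π.τ₃ ≫ h₃.exact.desc k hk = k := fun k hk => h₃.exact.g_desc k hk
  have hc : IsColimit (CokernelCofork.ofπ π w) := by
    refine CokernelCofork.IsColimit.ofπ _ _ (fun {Z} k hk =>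
      { τ₁ := h₁.exact.desc k.τ₁ (congrArg ShortComplex.Hom.τ₁ hk)
        τ₂ := h₂.exact.desc k.τ₂ (congrArg ShortComplex.Hom.τ₂ hk)
        τ₃ := h₃.exact.desc k.τ₃ (congrArg ShortComplex.Hom.τ₃ hk)
        comm₁₂ := ?_
        comm₂₃ := ?_ }) (fun {Z} k hk => ?_) (fun {Z} k hk m hm => ?_)
    · refine (cancel_epi π.τ₁).1 ?_
      calc π.τ₁ ≫ _ ≫ _ = (π.τ₁ ≫ _) ≫ _ := (Category.assoc _ _ _).symm
        _ = k.τ₁ ≫ _ := congrArg (· ≫ _) (e₁ _ _)
        _ = B.f ≫ k.τ₂ := k.comm₁₂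
        _ = B.f ≫ π.τ₂ ≫ _ := congrArg (B.f ≫ ·) (e₂ _ _).symm
        _ = _ := by rw [← Category.assoc, ← π.comm₁₂, Category.assoc]
    · refine (cancel_epi π.τ₂).1 ?_
      calc π.τ₂ ≫ _ ≫ _ = (π.τ₂ ≫ _) ≫ _ := (Category.assoc _ _ _).symm
        _ = k.τ₂ ≫ _ := congrArg (· ≫ _) (e₂ _ _)
        _ = B.g ≫ k.τ₃ := k.comm₂₃
        _ = B.g ≫ π.τ₃ ≫ _ := congrArg (B.g ≫ ·) (e₃ _ _).symm
        _ = _ := by rw [← Category.assoc, ← π.comm₂₃, Category.assoc]
    · ext
      · exact h₁.exact.g_desc _ _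
      · exact h₂.exact.g_desc _ _
      · exact h₃.exact.g_desc _ _
    · subst hm
      ext
      · exact (cancel_epi π.τ₁).1 (h₁.exact.g_desc _ _).symm
      · exact (cancel_epi π.τ₂).1 (h₂.exact.g_desc _ _).symm
      · exact (cancel_epi π.τ₃).1 (h₃.exact.g_desc _ _).symm
  let S : ShortComplex.SnakeInput C :=
    { L₀ := kernel φ
      L₁ := A
      L₂ := B
      L₃ := Q
      v₀₁ := kernel.ι φ
      v₁₂ := φ
      v₂₃ := π
      w₀₂ := kernel.condition φ
      w₁₃ := w
      h₀ := kernelIsKernel φ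
      h₃ := hc
      L₁_exact := hA.exact
      epi_L₁_g := hA.epi_g
      L₂_exact := hB.exact
      mono_L₂_f := hB.mono_f }
  have h0 : IsZero S.L₀.X₃ := by
    have := h₃.mono_f
    dsimp at this
    have hm : S.v₀₁.τ₃ ≫ φ.τ₃ = 0 := congrArg ShortComplex.Hom.τ₃ S.w₀₂
    have he : S.v₀₁.τ₃ = 0 := zero_of_comp_mono _ hm
    have : Mono S.v₀₁.τ₃ := Fork.IsLimit.mono S.h₀τ₃
    exact IsZero.of_mono_eq_zero _ he
  have : Epi S.L₂.g := hB.epi_g
  exact { exact := S.L₃_exact
          mono_f := S.L₂'_exact.mono_g (h0.eq_of_src _ _)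
          epi_g := ShortComplex.SnakeInput.epi_L₃_g S }

/-- A direct sum of short exact sequences. -/
theorem shortExact_biprod {A₁ A₂ A₃ B₁ B₂ B₃ : C} {a : A₁ ⟶ A₂} {a' : A₂ ⟶ A₃} {b : B₁ ⟶ B₂}
    {b' : B₂ ⟶ B₃} {wa : a ≫ a' = 0} {wb : b ≫ b' = 0} (ha : (ShortComplex.mk a a' wa).ShortExact)
    (hb : (ShortComplex.mk b b' wb).ShortExact) (w : biprod.map a b ≫ biprod.map a' b' = 0) :
    (ShortComplex.mk (biprod.map a b) (biprod.map a' b') w).ShortExact := by
  have := ha.mono_f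
  have := hb.mono_f
  have := ha.epi_g
  have := hb.epi_g
  dsimp at *
  refine { exact := ?_, mono_f := inferInstanceAs (Mono (biprod.map a b)),
           epi_g := inferInstanceAs (Epi (biprod.map a' b')) }
  refine ShortComplex.exact_of_g_is_cokernel _ (CokernelCofork.IsColimit.ofπ _ _
    (fun {Z} k hk => biprod.desc
      (ha.exact.desc (biprod.inl ≫ k) ?_) (hb.exact.desc (biprod.inr ≫ k) ?_))
    (fun {Z} k hk => ?_) (fun {Z} k hk m hm => ?_))
  · change a ≫ biprod.inl ≫ k = 0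
    rw [← biprod.inl_map_assoc a b]
    erw [hk, comp_zero]
  · change b ≫ biprod.inr ≫ k = 0
    rw [← biprod.inr_map_assoc a b]
    erw [hk, comp_zero]
  · apply biprod.hom_ext'
    · rw [biprod.inl_map_assoc, biprod.inl_desc]
      exact ha.exact.g_desc _ _
    · rw [biprod.inr_map_assoc, biprod.inr_desc]
      exact hb.exact.g_desc _ _
  · subst hm
    apply biprod.hom_ext'
    · rw [biprod.inl_desc, ← cancel_epi a']
      refine Eq.trans ?_ (ha.exact.g_desc _ _).symm
      rw [biprod.inl_map_assoc]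
    · rw [biprod.inr_desc, ← cancel_epi b']
      refine Eq.trans ?_ (hb.exact.g_desc _ _).symm
      rw [biprod.inr_map_assoc]

end Nine

variable {X : TopCat.{u}}

local notation "JX" => Opens.grothendieckTopology X

open LocCohZ in
/-- The complex `ℤ_{Z∪Z'} → ℤ_Z ⊕ ℤ_{Z'} → ℤ_{Z∩Z'}` for `Z = X ∖ U`, `Z' = X ∖ U'`. -/
def mvSeq (U U' : Opens X) : ShortComplex (CohTop.Ab X) :=
  ShortComplex.mk
    (biprod.lift (zqMap (le_top : U ≤ ⊤) (le_top : U ⊓ U' ≤ ⊤) inf_le_left le_rfl)
      (-zqMap (le_top : U' ≤ ⊤) (le_top : U ⊓ U' ≤ ⊤) inf_le_right le_rfl))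
    (biprod.desc (zqMap (le_top : U ⊔ U' ≤ ⊤) (le_top : U ≤ ⊤) le_sup_left le_rfl)
      (zqMap (le_top : U ⊔ U' ≤ ⊤) (le_top : U' ≤ ⊤) le_sup_right le_rfl))
    (by
      rw [biprod.lift_desc, Preadditive.neg_comp, add_neg_eq_zero,
        ← cancel_epi (cokernel.π (CohCx.freeSheafMap JX (homOfLE (le_top : U ⊓ U' ≤ (⊤ : Opens X)))))]
      simp [zqMap])

open LocCohZ in
theorem mvSeq_shortExact (U U' : Opens X) : (mvSeq U U').ShortExact := by
  let T : Opens X := ⊤
  let A : ShortComplex (CohTop.Ab X) := (Opens.mayerVietorisSquare U U').shortComplex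
  let B : ShortComplex (CohTop.Ab X) :=
    ShortComplex.mk (biprod.lift (𝟙 (CohCx.freeSheaf JX T)) (-𝟙 (CohCx.freeSheaf JX T)))
      (biprod.desc (𝟙 _) (𝟙 _)) (by simp [biprod.lift_desc])
  let s : B.Splitting :=
    { r := biprod.fst
      s := biprod.inr
      f_r := by simp [B]
      s_g := by simp [B]
      id := by
        apply biprod.hom_ext' <;> apply biprod.hom_ext <;> simp [B] }
  let φ : A ⟶ B :=
    { τ₁ := CohCx.freeSheafMap JX (homOfLE (le_top : U ⊓ U' ≤ T))
      τ₂ := biprod.map (CohCx.freeSheafMap JX (homOfLE (le_top : U ≤ T)))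
        (CohCx.freeSheafMap JX (homOfLE (le_top : U' ≤ T)))
      τ₃ := CohCx.freeSheafMap JX (homOfLE (le_top : U ⊔ U' ≤ T))
      comm₁₂ := by
        apply biprod.hom_ext
        · simp only [A, B, GrothendieckTopology.MayerVietorisSquare.shortComplex, Category.assoc,
            biprod.lift_fst, biprod.map_fst, biprod.lift_fst_assoc, Category.comp_id]
          erw [← Functor.map_comp, ← Functor.whiskerRight_comp, ← Functor.map_comp]
          rfl
        · simp only [A, B, GrothendieckTopology.MayerVietorisSquare.shortComplex, Category.assoc,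
            biprod.lift_snd, biprod.map_snd, biprod.lift_snd_assoc, Category.comp_id,
            Preadditive.neg_comp, Preadditive.comp_neg]
          erw [Preadditive.neg_comp, ← Functor.map_comp, ← Functor.whiskerRight_comp, ← Functor.map_comp]
          rfl
      comm₂₃ := by
        apply biprod.hom_ext'
        · simp only [A, B, GrothendieckTopology.MayerVietorisSquare.shortComplex,
            biprod.inl_map_assoc, biprod.inl_desc, biprod.inl_desc_assoc, Category.comp_id]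
          erw [← Functor.map_comp, ← Functor.whiskerRight_comp, ← Functor.map_comp]
          rfl
        · simp only [A, B, GrothendieckTopology.MayerVietorisSquare.shortComplex,
            biprod.inr_map_assoc, biprod.inr_desc, biprod.inr_desc_assoc, Category.comp_id]
          erw [← Functor.map_comp, ← Functor.whiskerRight_comp, ← Functor.map_comp]
          rfl }
  let π : B ⟶ mvSeq U U' :=
    { τ₁ := cokernel.π _
      τ₂ := biprod.map (cokernel.π _) (cokernel.π _)
      τ₃ := cokernel.π _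
      comm₁₂ := by
        apply biprod.hom_ext <;> simp [B, mvSeq, zqMap, CohCx.freeSheafMap, T]
      comm₂₃ := by
        apply biprod.hom_ext' <;> simp [B, mvSeq, zqMap, CohCx.freeSheafMap, T] }
  have w : φ ≫ π = 0 := by
    ext1
    · exact cokernel.condition _
    · apply biprod.hom_ext'
      · change biprod.inl ≫ biprod.map _ _ ≫ biprod.map _ _ = biprod.inl ≫ 0
        erw [biprod.inl_map_assoc, biprod.inl_map, cokernel.condition_assoc, zero_comp, comp_zero]
      · change biprod.inr ≫ biprod.map _ _ ≫ biprod.map _ _ = biprod.inr ≫ 0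
        erw [biprod.inr_map_assoc, biprod.inr_map, cokernel.condition_assoc, zero_comp, comp_zero]
    · exact cokernel.condition _
  exact shortExact_bottom φ π w (Opens.mayerVietorisSquare U U').shortComplex_shortExact
    s.shortExact (zqSeq_shortExact (le_top : U ⊓ U' ≤ T))
    (shortExact_biprod (zqSeq_shortExact (le_top : U ≤ T)) (zqSeq_shortExact (le_top : U' ≤ T))
      (congrArg ShortComplex.Hom.τ₂ w))
    (zqSeq_shortExact (le_top : U ⊔ U' ≤ T))

end Groth.Agent.H6MV

end
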